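import Groth.Agent.Lib.RankOne16.Gen
import Groth.Agent.Lib.TorsorSch25.ExactPts
import Mathlib.AlgebraicGeometry.Sites.Fpqc

/-! A homomorphism defined on a neighbourhood of the unit section of a smooth group with connected
fibres, multiplicative wherever this makes sense, extends uniquely to the group. -/

universe u

open CategoryTheory CategoryTheory.Limits MonoidalCategory CartesianMonoidalCategory MonObj AlgebraicGeometry

set_option linter.style.haveILetI false
set_option backward.isDefEq.respectTransparency false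
set_option backward.isDefEq.respectTransparency.types false


noncomputable section

namespace Groth.Agent.RatHom19

open RankOne16 (Rig)
open GrpNeutral20 (hap)

variable {S : Scheme.{u}} {G : Over S} [GrpObj G]

/-- all points of `g` are in `U` -/
def In (U : G.left.Opens) {X : Over S} (g : X ⟶ G) : Prop := ∀ p, g.left p ∈ U

omit [GrpObj G] in
theorem In.comp {U : G.left.Opens} {X X' : Over S} {g : X ⟶ G} (h : In U g) (e : X' ⟶ X) : In U (e ≫ g) :=
  fun p => by rw [hap]; exact h _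

theorem exists_generic (hG : Rig G) (U : G.left.Opens) (hU : ∀ s : S, η[G].left s ∈ U) {κ : Type} [Finite κ]
    {X : Over S} (g : κ → (X ⟶ G)) :
    ∃ (X' : Over S) (e : X' ⟶ X) (k : X' ⟶ G), Epi e ∧ Flat e.left ∧ Surjective e.left ∧
      LocallyOfFinitePresentation e.left ∧ ∀ a, In U (k * (e ≫ g a)) := by
  classical
  haveI := hG.smooth
  let m : κ → (G ⊗ X ⟶ G) := fun a => fst G X * (snd G X ≫ g a)
  let W : (G ⊗ X).left.Opens :=
    ⟨⋂ a, (m a).left ⁻¹' (U : Set G.left), isOpen_iInter_of_finite fun a => U.isOpen.preimage (m a).left.continuous⟩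
  haveI : Smooth (snd G X).left := inferInstanceAs (Smooth (pullback.snd G.hom X.hom))
  haveI : Surjective (W.ι ≫ (snd G X).left) := ⟨fun x => by
    let K := AlgebraicClosure (X.left.residueField x)
    let yx : Spec (CommRingCat.of K) ⟶ X.left :=
      Spec.map (CommRingCat.ofHom (algebraMap (X.left.residueField x) K)) ≫ X.left.fromSpecResidueField x
    let T : Over S := Over.mk (yx ≫ X.hom)
    let a : T ⟶ X := Over.homMk yx rfl
    let pt : T.left := (IsLocalRing.closedPoint K : Spec (CommRingCat.of K))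
    haveI : Subsingleton T.left := inferInstanceAs (Subsingleton (PrimeSpectrum K))
    have ha : a.left pt = x := by
      show (Spec.map (CommRingCat.ofHom (algebraMap (X.left.residueField x) K)) ≫ X.left.fromSpecResidueField x) _ = x
      rw [Scheme.Hom.comp_apply]
      exact Scheme.fromSpecResidueField_apply x _
    have sq : IsPullback (snd T G).left (fst T G).left G.hom T.hom := (IsPullback.of_hasPullback T.hom G.hom).flip
    have hC := GrpNeutral20.isIrreducible_preimage G (fun s => GrpNeutral20.lft_fibres G s) (K := K) (y := T.hom) sq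
    rw [hG.neutral, Set.preimage_univ] at hC
    let φ : T ⊗ G ⟶ G ⊗ X := lift (snd T G) (fst T G ≫ a)
    obtain ⟨w, -, hw⟩ := isIrreducible_iff_sInter.1 hC
      ((Set.finite_range fun b => φ.left ⁻¹' ((m b).left ⁻¹' (U : Set G.left))).toFinset)
      (by
        intro V hV
        obtain ⟨b, rfl⟩ := (Set.Finite.mem_toFinset _).1 hV
        exact (U.isOpen.preimage (m b).left.continuous).preimage φ.left.continuous)
      (by
        intro V hV
        obtain ⟨b, rfl⟩ := (Set.Finite.mem_toFinset _).1 hV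
        refine ⟨(lift (𝟙 T) (a ≫ g b)⁻¹ : T ⟶ T ⊗ G).left pt, trivial, ?_⟩
        show (m b).left (φ.left _) ∈ U
        rw [← hap, ← hap, show (lift (𝟙 T) (a ≫ g b)⁻¹ : T ⟶ T ⊗ G) ≫ φ ≫ m b = 1 by
          simp [m, φ, MonObj.comp_mul], Hom.one_def, hap]
        exact hU _)
    refine ⟨⟨φ.left w, Set.mem_iInter.2 fun b => hw _ ((Set.Finite.mem_toFinset _).2 ⟨b, rfl⟩)⟩, ?_⟩
    show (snd G X).left (φ.left w) = x
    rw [← hap, lift_snd, hap, Subsingleton.elim ((fst T G).left w) pt, ha]⟩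
  haveI : Flat (W.ι ≫ (snd G X).left) := inferInstance
  haveI : LocallyOfFinitePresentation (W.ι ≫ (snd G X).left) := inferInstance
  haveI : Epi (W.ι ≫ (snd G X).left) := Flat.epi_of_flat_of_surjective _
  let X' : Over S := Over.mk (W.ι ≫ (G ⊗ X).hom)
  let q : X' ⟶ G ⊗ X := Over.homMk W.ι
  haveI : Epi (q ≫ snd G X).left := ‹Epi (W.ι ≫ (snd G X).left)›
  refine ⟨X', q ≫ snd G X, q ≫ fst G X, Over.epi_of_epi_left _, ‹Flat (W.ι ≫ (snd G X).left)›,
    ‹Surjective (W.ι ≫ (snd G X).left)›, ‹LocallyOfFinitePresentation (W.ι ≫ (snd G X).left)›, fun a p => ?_⟩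
  rw [show q ≫ fst G X * ((q ≫ snd G X) ≫ g a) = q ≫ m a by rw [MonObj.comp_mul, Category.assoc], hap]
  exact Set.mem_iInter.1 p.2 a

variable {H : Over S} [GrpObj H] {U' : Over S} (j : U' ⟶ G) [IsOpenImmersion j.left] (f₀ : U' ⟶ H)

/-- the lift to `U'` -/
def lf {X : Over S} (g : X ⟶ G) (h : In j.left.opensRange g) : X ⟶ U' :=
  Over.homMk (IsOpenImmersion.lift j.left g.left (by rintro _ ⟨p, rfl⟩; exact h p)) (by
    rw [← Over.w j, IsOpenImmersion.lift_fac_assoc]; exact Over.w g)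

omit [GrpObj G] in
theorem lf_j {X : Over S} (g : X ⟶ G) (h : In j.left.opensRange g) : lf j g h ≫ j = g :=
  Over.OverMorphism.ext (IsOpenImmersion.lift_fac _ _ _)

/-- the value of the partial map -/
def val {X : Over S} (g : X ⟶ G) (h : In j.left.opensRange g) : X ⟶ H := lf j g h ≫ f₀

omit [GrpObj G] [GrpObj H] in
theorem val_eq {X : Over S} {g : X ⟶ G} (h : In j.left.opensRange g) (c : X ⟶ U') (hc : c ≫ j = g) :
    val j f₀ g h = c ≫ f₀ := by
  haveI : Mono j := Over.mono_of_mono_left j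
  rw [val, (cancel_mono j).1 ((lf_j j g h).trans hc.symm)]

omit [GrpObj G] [GrpObj H] in
theorem val_comp {X X' : Over S} (e : X' ⟶ X) {g : X ⟶ G} (h : In j.left.opensRange g) :
    e ≫ val j f₀ g h = val j f₀ (e ≫ g) (h.comp e) := by
  rw [val_eq j f₀ (h.comp e) (e ≫ lf j g h) (by rw [Category.assoc, lf_j]), val, Category.assoc]

omit [GrpObj G] [GrpObj H] in
theorem val_congr {X : Over S} {g g' : X ⟶ G} (h : In j.left.opensRange g) (e : g = g') :
    val j f₀ g h = val j f₀ g' (e ▸ h) := by subst e; rfl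

omit [GrpObj G] [GrpObj H] in
theorem val_congr' {X : Over S} {g g' : X ⟶ G} (h : In j.left.opensRange g) (h' : In j.left.opensRange g')
    (e : g = g') : val j f₀ g h = val j f₀ g' h' := by subst e; rfl

variable (hG : Rig G) (h1 : ∀ s : S, η[G].left s ∈ j.left.opensRange)
  (hmul : ∀ (X : Over S) (a b c : X ⟶ U'), c ≫ j = (a ≫ j) * (b ≫ j) → c ≫ f₀ = (a ≫ f₀) * (b ≫ f₀))

include hmul in
theorem val_mul {X : Over S} {a b c : X ⟶ G} (ha : In j.left.opensRange a) (hb : In j.left.opensRange b)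
    (hc : In j.left.opensRange c) (h : c = a * b) : val j f₀ c hc = val j f₀ a ha * val j f₀ b hb :=
  hmul X _ _ _ (by rw [lf_j, lf_j, lf_j, h])

include hG h1 hmul in
theorem indep {X : Over S} {g k l : X ⟶ G} (hk : In j.left.opensRange k) (hkg : In j.left.opensRange (k * g))
    (hl : In j.left.opensRange l) (hlg : In j.left.opensRange (l * g)) :
    (val j f₀ k hk)⁻¹ * val j f₀ (k * g) hkg = (val j f₀ l hl)⁻¹ * val j f₀ (l * g) hlg := by
  obtain ⟨X', e, n, he, -, -, -, hn⟩ := exists_generic hG j.left.opensRange h1 (![1, k⁻¹, l⁻¹, g] : Fin 4 → (X ⟶ G))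
  have hn0 : In j.left.opensRange n := by simpa [MonObj.comp_one] using hn 0
  have hn1 : In j.left.opensRange (n * (e ≫ k)⁻¹) := by simpa [GrpObj.comp_inv] using hn 1
  have hn2 : In j.left.opensRange (n * (e ≫ l)⁻¹) := by simpa [GrpObj.comp_inv] using hn 2
  have hng : In j.left.opensRange (n * (e ≫ g)) := by simpa using hn 3
  rw [← cancel_epi e, MonObj.comp_mul, MonObj.comp_mul, GrpObj.comp_inv, GrpObj.comp_inv, val_comp, val_comp,
    val_comp, val_comp]
  have key : ∀ (d : X ⟶ G) (hd : In j.left.opensRange d) (hdg : In j.left.opensRange (d * g)),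
      In j.left.opensRange (n * (e ≫ d)⁻¹) →
      (val j f₀ (e ≫ d) (hd.comp e))⁻¹ * val j f₀ (e ≫ (d * g)) (hdg.comp e) =
        (val j f₀ n hn0)⁻¹ * val j f₀ (n * (e ≫ g)) hng := by
    intro d hd hdg hnd
    rw [val_mul j f₀ hmul hnd (hd.comp e) hn0 (by group),
      val_mul j f₀ hmul hnd (hdg.comp e) hng (by rw [MonObj.comp_mul]; group)]
    group
  rw [key k hk hkg hn1, key l hl hlg hn2]

include hG h1 hmul in
theorem indep' {X : Over S} {g g' k l : X ⟶ G} (hk : In j.left.opensRange k) (hkg : In j.left.opensRange (k * g))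
    (hl : In j.left.opensRange l) (hlg : In j.left.opensRange (l * g')) (e : g = g') :
    (val j f₀ k hk)⁻¹ * val j f₀ (k * g) hkg = (val j f₀ l hl)⁻¹ * val j f₀ (l * g') hlg := by
  subst e
  exact indep j f₀ hG h1 hmul hk hkg hl hlg

include hG h1 hmul in
theorem desc_compat {Z : Over S} {e k : Z ⟶ G} (hk0 : In j.left.opensRange k) (hke : In j.left.opensRange (k * e))
    {Y : Scheme.{u}} (a b : Y ⟶ Z.left) (hab : a ≫ e.left = b ≫ e.left) :
    a ≫ ((val j f₀ k hk0)⁻¹ * val j f₀ (k * e) hke).left = b ≫ ((val j f₀ k hk0)⁻¹ * val j f₀ (k * e) hke).left := by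
  let a' : Over.mk (a ≫ Z.hom) ⟶ Z := Over.homMk a
  let b' : Over.mk (a ≫ Z.hom) ⟶ Z := Over.homMk b (by
    show b ≫ Z.hom = a ≫ Z.hom
    rw [← Over.w e, ← Category.assoc, ← hab, Category.assoc])
  have h : a' ≫ e = b' ≫ e := Over.OverMorphism.ext hab
  suffices a' ≫ ((val j f₀ k hk0)⁻¹ * val j f₀ (k * e) hke) = b' ≫ ((val j f₀ k hk0)⁻¹ * val j f₀ (k * e) hke) from
    congrArg (fun t : Over.mk (a ≫ Z.hom) ⟶ H => t.left) this
  clear_value a' b'
  rw [MonObj.comp_mul, MonObj.comp_mul, GrpObj.comp_inv, GrpObj.comp_inv, val_comp, val_comp, val_comp, val_comp,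
    val_congr j f₀ (hke.comp a') (MonObj.comp_mul a' k e), val_congr j f₀ (hke.comp b') (MonObj.comp_mul b' k e)]
  exact indep' j f₀ hG h1 hmul _ _ _ _ h

include hG h1 hmul in
theorem exists_univ : ∃ f : G ⟶ H, ∀ {X : Over S} (g d : X ⟶ G) (hd : In j.left.opensRange d)
    (hdg : In j.left.opensRange (d * g)), g ≫ f = (val j f₀ d hd)⁻¹ * val j f₀ (d * g) hdg := by
  obtain ⟨Z, e, k, he, hfl, hsu, hfp, hk⟩ :=
    exists_generic hG j.left.opensRange h1 (![1, 𝟙 G] : Fin 2 → (G ⟶ G))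
  have hk0 : In j.left.opensRange k := by simpa [MonObj.comp_one] using hk 0
  have hke : In j.left.opensRange (k * e) := by simpa using hk 1
  obtain ⟨f, hf⟩ : ∃ f : G ⟶ H, e ≫ f = (val j f₀ k hk0)⁻¹ * val j f₀ (k * e) hke := by
    have hc := fun (Y : Scheme.{u}) (a b : Y ⟶ Z.left) (h : a ≫ e.left = b ≫ e.left) =>
      desc_compat j f₀ hG h1 hmul hk0 hke a b h
    generalize (val j f₀ k hk0)⁻¹ * val j f₀ (k * e) hke = Φ at hc ⊢
    haveI : Epi e.left := Flat.epi_of_flat_of_surjective _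
    refine ⟨Over.homMk (EffectiveEpi.desc e.left Φ.left fun {Y} a b h => hc Y a b h) ?_,
      Over.OverMorphism.ext (EffectiveEpi.fac e.left Φ.left fun {Y} a b h => hc Y a b h)⟩
    rw [← cancel_epi e.left, ← Category.assoc,
      EffectiveEpi.fac e.left Φ.left fun {Y} a b h => hc Y a b h, Over.w Φ, Over.w e]
  refine ⟨f, fun {X} g d hd hdg => ?_⟩
  obtain ⟨X', p, z, hp, hz⟩ : ∃ (X' : Over S) (p : X' ⟶ X) (z : X' ⟶ Z), Epi p ∧ p ≫ g = z ≫ e := by
    let X' : Over S := Over.mk (pullback.fst g.left e.left ≫ X.hom)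
    let p : X' ⟶ X := Over.homMk (pullback.fst g.left e.left)
    let z : X' ⟶ Z := Over.homMk (pullback.snd g.left e.left) (by
      show pullback.snd g.left e.left ≫ Z.hom = pullback.fst g.left e.left ≫ X.hom
      rw [← Over.w e, ← Category.assoc, ← pullback.condition, Category.assoc, Over.w g])
    haveI : Flat (pullback.fst g.left e.left) := MorphismProperty.pullback_fst _ _ hfl
    haveI : Surjective (pullback.fst g.left e.left) := MorphismProperty.pullback_fst _ _ hsu
    haveI : Epi p.left := Flat.epi_of_flat_of_surjective (pullback.fst g.left e.left)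
    exact ⟨X', p, z, Over.epi_of_epi_left _, Over.OverMorphism.ext pullback.condition⟩
  rw [← cancel_epi p, ← Category.assoc, hz, Category.assoc, hf, MonObj.comp_mul, MonObj.comp_mul, GrpObj.comp_inv,
    GrpObj.comp_inv, val_comp, val_comp, val_comp, val_comp,
    val_congr j f₀ (hke.comp z) (MonObj.comp_mul z k e), val_congr j f₀ (hdg.comp p) (MonObj.comp_mul p d g)]
  exact indep' j f₀ hG h1 hmul _ _ _ _ hz.symm

omit [IsOpenImmersion j.left] in
theorem tail {X X' : Over S} (q : X' ⟶ X) [Epi q] (x y : X ⟶ G) (f : G ⟶ H) (a b c : X' ⟶ H)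
    (hA : (q ≫ (x * y)) ≫ f = a⁻¹ * c) (hB : (q ≫ x) ≫ f = a⁻¹ * b) (hC : (q ≫ y) ≫ f = b⁻¹ * c) :
    (x * y) ≫ f = (x ≫ f) * (y ≫ f) := by
  rw [← cancel_epi q, ← Category.assoc, hA, MonObj.comp_mul, ← Category.assoc, ← Category.assoc, hB, hC,
    _root_.mul_assoc, mul_inv_cancel_left]

include hG h1 in
theorem mul_of_univ (f : G ⟶ H) (huniv : ∀ {X : Over S} (g d : X ⟶ G) (hd : In j.left.opensRange d)
    (hdg : In j.left.opensRange (d * g)), g ≫ f = (val j f₀ d hd)⁻¹ * val j f₀ (d * g) hdg)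
    (X : Over S) (x y : X ⟶ G) : (x * y) ≫ f = (x ≫ f) * (y ≫ f) := by
  obtain ⟨X', q, d, hq, -, -, -, hd⟩ :=
    exists_generic hG j.left.opensRange h1 (![1, x, x * y] : Fin 3 → (X ⟶ G))
  have hd0 : In j.left.opensRange d := by simpa [MonObj.comp_one] using hd 0
  have hd1 : In j.left.opensRange (d * (q ≫ x)) := by simpa using hd 1
  have hd2 : In j.left.opensRange (d * (q ≫ (x * y))) := by simpa using hd 2
  have e : d * (q ≫ (x * y)) = d * (q ≫ x) * (q ≫ y) := by rw [MonObj.comp_mul, _root_.mul_assoc]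
  have hd2' : In j.left.opensRange (d * (q ≫ x) * (q ≫ y)) := e ▸ hd2
  have hA : (q ≫ (x * y)) ≫ f = (val j f₀ d hd0)⁻¹ * val j f₀ (d * (q ≫ x) * (q ≫ y)) hd2' := by
    rw [huniv (q ≫ (x * y)) d hd0 hd2, val_congr' j f₀ hd2 hd2' e]
  exact tail q x y f _ _ _ hA (huniv _ d hd0 hd1) (huniv _ _ hd1 hd2')

include hG h1 hmul in
theorem comp_of_univ (f : G ⟶ H) (huniv : ∀ {X : Over S} (g d : X ⟶ G) (hd : In j.left.opensRange d)
    (hdg : In j.left.opensRange (d * g)), g ≫ f = (val j f₀ d hd)⁻¹ * val j f₀ (d * g) hdg) :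
    j ≫ f = f₀ := by
  obtain ⟨X', q, d, hq, -, -, -, hd⟩ :=
    exists_generic hG j.left.opensRange h1 (![1, j] : Fin 2 → (U' ⟶ G))
  have hd0 : In j.left.opensRange d := by simpa [MonObj.comp_one] using hd 0
  have hd1 : In j.left.opensRange (d * (q ≫ j)) := by simpa using hd 1
  have hqj : In j.left.opensRange (q ≫ j) := fun p => by rw [hap]; exact ⟨_, rfl⟩
  rw [← cancel_epi q, ← Category.assoc, huniv _ d hd0 hd1, val_mul j f₀ hmul hd0 hqj hd1 rfl,
    inv_mul_cancel_left, val_eq j f₀ hqj q rfl]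

include hG h1 in
theorem eq_of_univ (f f' : G ⟶ H) [IsMonHom f'] (huniv : ∀ {X : Over S} (g d : X ⟶ G) (hd : In j.left.opensRange d)
    (hdg : In j.left.opensRange (d * g)), g ≫ f = (val j f₀ d hd)⁻¹ * val j f₀ (d * g) hdg)
    (hj' : j ≫ f' = f₀) : f' = f := by
  obtain ⟨X', q, d, hq, -, -, -, hd⟩ :=
    exists_generic hG j.left.opensRange h1 (![1, 𝟙 G] : Fin 2 → (G ⟶ G))
  have hd0 : In j.left.opensRange d := by simpa [MonObj.comp_one] using hd 0
  have hd1 : In j.left.opensRange (d * q) := by simpa using hd 1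
  have hval : ∀ (c : X' ⟶ G) (hc : In j.left.opensRange c), c ≫ f' = val j f₀ c hc := fun c hc => by
    conv_lhs => rw [← lf_j j c hc]
    rw [Category.assoc, hj']
    rfl
  rw [← cancel_epi q, huniv q d hd0 hd1, ← hval d hd0, ← hval (d * q) hd1, MonObj.mul_comp, inv_mul_cancel_left]

include hG h1 hmul in
/-- Extension of a partial homomorphism. -/
theorem existsUnique_extend : ∃! f : G ⟶ H, IsMonHom f ∧ j ≫ f = f₀ := by
  obtain ⟨f, huniv⟩ := exists_univ j f₀ hG h1 hmul
  refine ⟨f, ⟨TorsorSch25.isMonHom_of_points f (mul_of_univ j f₀ hG h1 f huniv),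
    comp_of_univ j f₀ hG h1 hmul f huniv⟩, fun f' ⟨hf', hj'⟩ => ?_⟩
  haveI := hf'
  exact eq_of_univ j f₀ hG h1 f f' huniv hj'

end Groth.Agent.RatHom19
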