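import Groth.Agent.Lib.RatHom19.Extend
import Groth.Agent.Lib.RankOne16.Iso
import Groth.Agent.Lib.RankOne16.UnitVal

/-! The map on big cells attached to a morphism of rank one data is multiplicative. -/

universe u

open CategoryTheory CategoryTheory.Limits MonoidalCategory CartesianMonoidalCategory MonObj AlgebraicGeometry

set_option linter.style.haveILetI false
set_option linter.unusedSectionVars false
set_option backward.isDefEq.respectTransparency false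
set_option backward.isDefEq.respectTransparency.types false

noncomputable section

namespace Groth.Agent.RatHom19

open RankOne16 RankOne

variable {S : Scheme.{u}} {G T G' T' : Over S} [GrpObj G] [GrpObj T] [GrpObj G'] [GrpObj T']
variable {i : T ⟶ G} {α : T ⟶ Red.Gm S} {pp pm : Red.Ga S ⟶ G} {av : Red.Gm S ⟶ T}
variable {i' : T' ⟶ G'} {α' : T' ⟶ Red.Gm S} {pp' pm' : Red.Ga S ⟶ G'} {av' : Red.Gm S ⟶ T'}

section Cell

variable (D : Datum i α pp pm av) (hT : Red.IsTorus T) (hΩ : IsOpenImmersion (cellMap i pp pm).left)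
include D

/-- the product of two elements of the cell -/
theorem cell_mul {X : Over S} (y x y' x' : Γ(X.left, ⊤)) (t t' : X ⟶ T) (u : (Γ(X.left, ⊤))ˣ)
    (hu : (u : Γ(X.left, ⊤)) = 1 + x * y') :
    cell i pp pm y t x * cell i pp pm y' t' x' = cell i pp pm
      (y + (((GmPts.unitOfPt (t ≫ α))⁻¹ : (Γ(X.left, ⊤))ˣ) : Γ(X.left, ⊤)) * (y' * ((u⁻¹ : (Γ(X.left, ⊤))ˣ) : Γ(X.left, ⊤))))
      (t * (GmPts.ptOfUnit u ≫ av) * t')
      ((((GmPts.unitOfPt (t' ≫ α))⁻¹ : (Γ(X.left, ⊤))ˣ) : Γ(X.left, ⊤)) * (x * ((u⁻¹ : (Γ(X.left, ⊤))ˣ) : Γ(X.left, ⊤))) + x') := by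
  have := D.hom_i; have := D.hom_pp; have := D.hom_pm
  simp only [cell, P_add, ← conjInv_P D, ← conj_M D, MonObj.mul_comp]
  rw [show ((GmPts.ptOfUnit u ≫ av) ≫ i) = A i av u from Category.assoc _ _ _]
  calc _ = P pm y * (t ≫ i) * (P pp x * P pm y') * (t' ≫ i) * P pp x' := by simp only [_root_.mul_assoc]
    _ = _ := by rw [P_mul_M D x y' u hu]; group

include hT hΩ

theorem W_not_cell {K : Type u} [Field K] [IsAlgClosed K] {x : Spec (CommRingCat.of K) ⟶ S}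
    (y c : Γ((kPt x).left, ⊤)) (s : kPt x ⟶ T) : W pp pm ≠ cell i pp pm y s c := by
  intro h
  have := D.hom_i; have := D.hom_av; have := D.hom_pp; have := D.hom_pm
  let z := GmPts.ptOfUnit (-1 : (Γ((kPt x).left, ⊤))ˣ) ≫ av
  have hz : A i av (-1 : (Γ((kPt x).left, ⊤))ˣ) = z ≫ i := (Category.assoc _ _ _).symm
  have h1 : W pp pm * P pm y = P pp (-y) * (W pp pm : kPt x ⟶ G) := by
    rw [← W_conj_M D y, inv_mul_cancel_right]
  have h2 : (z ≫ i) = P pp (-y) * W pp pm * (s ≫ i) * P pp c := by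
    rw [← h1, ← hz, ← W_mul_W D]
    nth_rewrite 2 [h]
    simp only [cell, _root_.mul_assoc]
  have h3 : W pp pm = P pp y * (z ≫ i) * P pp (-c) * (s ≫ i)⁻¹ := by
    rw [h2, P_neg, P_neg]
    group
  have h4 : P pp y * (z ≫ i) = (z ≫ i) * P pp ((((GmPts.unitOfPt (z ≫ α))⁻¹ :
      (Γ((kPt x).left, ⊤))ˣ) : Γ((kPt x).left, ⊤)) * y) := by
    rw [← conjInv_P D z y]; group
  rw [h4, _root_.mul_assoc (z ≫ i), ← P_add, ← GrpObj.inv_comp] at h3
  generalize (_ + -c : Γ((kPt x).left, ⊤)) = e at h3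
  have h5 : P pp e * (s⁻¹ ≫ i) = (s⁻¹ ≫ i) * P pp ((((GmPts.unitOfPt (s⁻¹ ≫ α))⁻¹ :
      (Γ((kPt x).left, ⊤))ˣ) : Γ((kPt x).left, ⊤)) * e) := by
    rw [← conjInv_P D s⁻¹ e]; group
  rw [_root_.mul_assoc, h5, ← _root_.mul_assoc, ← MonObj.mul_comp] at h3
  exact W_not_B D hT hΩ _ _ h3

theorem isUnit_of_cell {X : Over S} (a b y c : Γ(X.left, ⊤)) (t : X ⟶ T)
    (h : P pp a * P pm b = cell i pp pm y t c) : IsUnit (1 + a * b) := by
  have := D.hom_i; have := D.hom_av; have := D.hom_pp; have := D.hom_pm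
  refine isUnit_of_geom _ fun p h0 => ?_
  have h' := congrArg (fun g => geomHom p ≫ g) h
  simp only [MonObj.comp_mul, RankOne.comp_P, comp_cell] at h'
  simp only [map_add, map_mul, map_one] at h0
  generalize (geomHom p).left.appTop a = a₀ at h' h0
  generalize (geomHom p).left.appTop b = b₀ at h' h0
  generalize (geomHom p).left.appTop y = y₀ at h'
  generalize (geomHom p).left.appTop c = c₀ at h'
  generalize geomHom p ≫ t = t₀ at h'
  have hab : b₀ * a₀ = -1 := by linear_combination h0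
  let v : (Γ((kPt (Red.geomPt p ≫ X.hom)).left, ⊤))ˣ :=
    ⟨a₀, -b₀, by linear_combination -hab, by linear_combination -hab⟩
  have hw : w pp pm a₀ b₀ = A i av v * W pp pm :=
    w_smul_left D v 1 (-1) a₀ b₀ (by simp) (by simp [v]) hab
  rw [w, h', eq_comm, ← eq_inv_mul_iff_mul_eq, ← A_inv, cell, _root_.mul_assoc (P pm y₀ * (t₀ ≫ i)), ← P_add] at hw
  simp only [← _root_.mul_assoc, A_conj_M D] at hw
  have e : A i av v⁻¹ * (t₀ ≫ i) = ((GmPts.ptOfUnit v⁻¹ ≫ av) * t₀) ≫ i := by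
    rw [MonObj.mul_comp]; exact congrArg (fun r => r * (t₀ ≫ i)) (Category.assoc _ _ _).symm
  rw [_root_.mul_assoc (P pm _) (A i av v⁻¹), e] at hw
  exact W_not_cell D hT hΩ _ _ _ hw

end Cell

/-- coordinates on the cell -/
def cy {X : Over S} (z : X ⟶ (Red.Ga S ⊗ T) ⊗ Red.Ga S) : Γ(X.left, ⊤) := Red.gaFn (z ≫ fst _ _ ≫ fst _ _)

/-- coordinates on the cell -/
def ct {X : Over S} (z : X ⟶ (Red.Ga S ⊗ T) ⊗ Red.Ga S) : X ⟶ T := z ≫ fst _ _ ≫ snd _ _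

/-- coordinates on the cell -/
def cx {X : Over S} (z : X ⟶ (Red.Ga S ⊗ T) ⊗ Red.Ga S) : Γ(X.left, ⊤) := Red.gaFn (z ≫ snd _ _)

theorem comp_cellMap {X : Over S} (z : X ⟶ (Red.Ga S ⊗ T) ⊗ Red.Ga S) :
    z ≫ cellMap i pp pm = cell i pp pm (cy z) (ct z) (cx z) := by
  rw [cell_eq]
  congr 1
  apply CartesianMonoidalCategory.hom_ext
  · apply CartesianMonoidalCategory.hom_ext
    · simp only [lift_fst, Category.assoc]
      exact GaPts.gaFn_injective (GaPts.gaFn_ptOfFn _).symm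
    · simp only [lift_fst, lift_snd, Category.assoc]; rfl
  · simp only [lift_snd]
    exact GaPts.gaFn_injective (GaPts.gaFn_ptOfFn _).symm

variable (c : 𝟙_ (Over S) ⟶ Red.Gm S) (q : ℕ) (fT : T ⟶ T')

variable (T) in
/-- the map on the cell -/
def cellHom (i' : T' ⟶ G') (pp' pm' : Red.Ga S ⟶ G') : (Red.Ga S ⊗ T) ⊗ Red.Ga S ⟶ G' :=
  cell i' pp' pm'
    ((((cU c ((Red.Ga S ⊗ T) ⊗ Red.Ga S))⁻¹ : (Γ(((Red.Ga S ⊗ T) ⊗ Red.Ga S).left, ⊤))ˣ) :
      Γ(((Red.Ga S ⊗ T) ⊗ Red.Ga S).left, ⊤)) * cy (𝟙 ((Red.Ga S ⊗ T) ⊗ Red.Ga S)) ^ q)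
    (ct (𝟙 ((Red.Ga S ⊗ T) ⊗ Red.Ga S)) ≫ fT)
    ((cU c ((Red.Ga S ⊗ T) ⊗ Red.Ga S) : Γ(((Red.Ga S ⊗ T) ⊗ Red.Ga S).left, ⊤)) *
      cx (𝟙 ((Red.Ga S ⊗ T) ⊗ Red.Ga S)) ^ q)

theorem comp_cellHom {X : Over S} (z : X ⟶ (Red.Ga S ⊗ T) ⊗ Red.Ga S) :
    z ≫ cellHom T c q fT i' pp' pm' = cell i' pp' pm'
      ((((cU c X)⁻¹ : (Γ(X.left, ⊤))ˣ) : Γ(X.left, ⊤)) * cy z ^ q) (ct z ≫ fT)
      ((cU c X : Γ(X.left, ⊤)) * cx z ^ q) := by
  rw [cellHom, comp_cell]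
  have hc : z.left.appTop (cU c ((Red.Ga S ⊗ T) ⊗ Red.Ga S) : Γ(((Red.Ga S ⊗ T) ⊗ Red.Ga S).left, ⊤)) =
      (cU c X : Γ(X.left, ⊤)) := by
    rw [val_cU, val_cU, ← GmPts.gmFn_comp, ← Category.assoc, comp_toUnit]
  have hc' : z.left.appTop (((cU c ((Red.Ga S ⊗ T) ⊗ Red.Ga S))⁻¹ :
      (Γ(((Red.Ga S ⊗ T) ⊗ Red.Ga S).left, ⊤))ˣ) : Γ(((Red.Ga S ⊗ T) ⊗ Red.Ga S).left, ⊤)) =
      (((cU c X)⁻¹ : (Γ(X.left, ⊤))ˣ) : Γ(X.left, ⊤)) := by
    apply Units.eq_inv_of_mul_eq_one_left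
    rw [← hc, ← map_mul, Units.mul_inv, map_one]
  simp only [map_mul, map_pow, hc, hc', cy, cx, ct, ← GaPts.gaFn_comp, Category.assoc, Category.id_comp]

variable (D : Datum i α pp pm av) (D' : Datum i' α' pp' pm' av') (hq0 : 0 < q)
  (hq : ∀ (X : Over S) (a b : Γ(X.left, ⊤)), (a + b) ^ q = a ^ q + b ^ q) [IsMonHom fT]
  (hfTα : fT ≫ α' = α ^ q) (hfTav : av ≫ fT = av' ^ q)

include hfTα in
theorem unit_fT {X : Over S} (t : X ⟶ T) :
    GmPts.unitOfPt ((t ≫ fT) ≫ α') = GmPts.unitOfPt (t ≫ α) ^ q := by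
  rw [Category.assoc, hfTα, MonObj.comp_pow]
  exact map_pow (GmPts.equiv X) (t ≫ α) q

include D D' hq0 hq hfTα hfTav in
theorem cellHom_mul (hT : Red.IsTorus T) (hΩ : IsOpenImmersion (cellMap i pp pm).left) (X : Over S)
    (z z' z'' : X ⟶ (Red.Ga S ⊗ T) ⊗ Red.Ga S)
    (h : z'' ≫ cellMap i pp pm = (z ≫ cellMap i pp pm) * (z' ≫ cellMap i pp pm)) :
    z'' ≫ cellHom T c q fT i' pp' pm' = (z ≫ cellHom T c q fT i' pp' pm') * (z' ≫ cellHom T c q fT i' pp' pm') := by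
  have := D.hom_i; have := D.hom_pp; have := D.hom_pm; have := D'.hom_i; have := D'.hom_av
  simp only [comp_cellMap] at h
  simp only [comp_cellHom]
  generalize cy z = y, ct z = t, cx z = x, cy z' = y', ct z' = t', cx z' = x', cy z'' = y₂, ct z'' = t₂,
    cx z'' = x₂ at h
  -- move the middle product into the cell
  have hm : P pp x * P pm y' = cell i pp pm
      ((GmPts.unitOfPt (t ≫ α) : Γ(X.left, ⊤)) * (-y + y₂)) (t⁻¹ * t₂ * t'⁻¹)
      ((GmPts.unitOfPt (t' ≫ α) : Γ(X.left, ⊤)) * (x₂ + -x')) := by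
    have e : P pp x * P pm y' = (t ≫ i)⁻¹ * P pm (-y + y₂) * (t₂ ≫ i) * P pp (x₂ + -x') * (t' ≫ i)⁻¹ := by
      rw [P_add, P_add, P_neg, P_neg]
      calc P pp x * P pm y' = (t ≫ i)⁻¹ * (P pm y)⁻¹ * (cell i pp pm y t x * cell i pp pm y' t' x') *
            (P pp x')⁻¹ * (t' ≫ i)⁻¹ := by simp only [cell]; group
        _ = _ := by rw [← h]; simp only [cell]; group
    rw [e, cell, ← conjInv_M D, ← conj_P D, MonObj.mul_comp, MonObj.mul_comp, GrpObj.inv_comp, GrpObj.inv_comp]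
    group
  obtain ⟨u, hu⟩ := isUnit_of_cell D hT hΩ _ _ _ _ _ hm
  rw [cell_mul D y x y' x' t t' u hu] at h
  obtain ⟨rfl, rfl, rfl⟩ := cell_inj hΩ h
  generalize hC : cU c X = C
  have hu' : ((u ^ q : (Γ(X.left, ⊤))ˣ) : Γ(X.left, ⊤)) =
      1 + (C : Γ(X.left, ⊤)) * x ^ q * (((C⁻¹ : (Γ(X.left, ⊤))ˣ) : Γ(X.left, ⊤)) * y' ^ q) := by
    rw [Units.val_pow_eq_pow_val, hu, hq, one_pow, mul_pow]
    linear_combination -(x ^ q * y' ^ q) * Units.mul_inv C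
  rw [cell_mul D' _ _ _ _ _ _ (u ^ q) hu']
  simp only [unit_fT q fT hfTα, MonObj.mul_comp]
  congr 1
  · rw [hq, mul_pow, mul_pow, ← Units.val_pow_eq_pow_val, ← Units.val_pow_eq_pow_val, inv_pow, inv_pow]; ring
  · congr 2
    rw [Category.assoc, hfTav, MonObj.comp_pow, show (GmPts.ptOfUnit u ≫ av') ^ q = (GmPts.ptOfUnit u ^ q) ≫ av' from (map_pow (pushHom av' X) _ q).symm]
    congr 1
    exact (map_pow (GmPts.equiv X).symm u q).symm
  · rw [hq, mul_pow, mul_pow, ← Units.val_pow_eq_pow_val, ← Units.val_pow_eq_pow_val, inv_pow, inv_pow]; ring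

end Groth.Agent.RatHom19
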